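import Groth.Prelude.Def_GrTwist
import Groth.Agent.GrModX.Basic
import Mathlib.RingTheory.Flat.EquationalCriterion

/-!
# Flatness of homogeneous fractions over the base ring, from flatness of the high degrees
-/

universe u

open CategoryTheory AlgebraicGeometry TopologicalSpace DirectSum HomogeneousLocalization
open scoped HomogeneousIdeal

set_option backward.isDefEq.respectTransparency false
set_option backward.isDefEq.respectTransparency.types false
set_option linter.style.haveILetI false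
set_option linter.unusedSectionVars false

namespace Groth.Agent.RelProjFlat

variable {A σ : Type u} [CommRing A] [SetLike σ A] [AddSubgroupClass σ A] {𝒜 : ℕ → σ} [GradedRing 𝒜]
  {R : Type u} [CommRing R] (φ : R →+* A)

theorem exists_component_notMem (x : ProjectiveSpectrum 𝒜) {u : A} (hu : u ∉ x.asHomogeneousIdeal) :
    ∃ e, (decompose 𝒜 u e : A) ∉ x.asHomogeneousIdeal := by
  classical
  by_contra! hall
  exact hu (by rw [← sum_support_decompose 𝒜 u]; exact Ideal.sum_mem _ fun i _ => hall i)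

theorem exists_pos_notMem (x : ProjectiveSpectrum 𝒜) :
    ∃ (m : ℕ) (g : A), 0 < m ∧ g ∈ 𝒜 m ∧ g ∉ x.asHomogeneousIdeal := by
  classical
  obtain ⟨f, hf0, hfy⟩ : ∃ f : A, f ∈ (HomogeneousIdeal.irrelevant 𝒜).toIdeal ∧ f ∉ x.asHomogeneousIdeal := by
    by_contra h
    push Not at h
    exact x.not_irrelevant_le h
  obtain ⟨d, hd⟩ := exists_component_notMem x hfy
  refine ⟨d, _, Nat.pos_of_ne_zero ?_, SetLike.coe_mem _, hd⟩
  rintro rfl
  refine hd ?_
  have h0 := (HomogeneousIdeal.mem_irrelevant_iff 𝒜 f).mp hf0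
  rw [GradedRing.proj_apply] at h0
  rw [h0]
  exact zero_mem _

/-- Multiples of a homogeneous element killed by an element not in the prime are killed by a homogeneous one. -/
theorem exists_homogeneous_kill (x : ProjectiveSpectrum 𝒜) {z : ℤ} {a u : A} (ha : GrModX.Deg 𝒜 z a)
    (hu : u ∉ x.asHomogeneousIdeal) (h : u * a = 0) :
    ∃ (e : ℕ) (t : A), t ∈ 𝒜 e ∧ t ∉ x.asHomogeneousIdeal ∧ t * a = 0 := by
  obtain ⟨e, he⟩ := exists_component_notMem x hu
  refine ⟨e, _, SetLike.coe_mem _, he, ?_⟩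
  rcases ha with rfl | ⟨i, -, hi⟩
  · exact mul_zero _
  · rw [← DirectSum.coe_decompose_mul_add_of_right_mem 𝒜 hi, h, decompose_zero]
    rfl

theorem exists_repr_twistAt (n : ℤ) (x : ProjectiveSpectrum 𝒜) {q : GrTwist.Loc 𝒜 x}
    (hq : q ∈ GrTwist.twistAt 𝒜 n x) :
    ∃ (j : ℕ) (s : A) (_ : s ∈ 𝒜 j) (hsx : s ∉ x.asHomogeneousIdeal) (a : A),
      GrModX.Deg 𝒜 ((j : ℤ) + n) a ∧ q = Localization.mk a ⟨s, hsx⟩ := by
  induction hq using Submodule.span_induction with
  | mem q h =>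
    obtain ⟨i, j, a, s, hs, hij, rfl⟩ := h
    exact ⟨j, s, s.2, hs, a, Or.inr ⟨i, hij, a.2⟩, rfl⟩
  | zero =>
    exact ⟨0, 1, SetLike.GradedOne.one_mem, fun h => x.isPrime.ne_top ((Ideal.eq_top_iff_one _).2 h), 0,
      GrModX.Deg.zero _, (Localization.mk_zero _).symm⟩
  | add q q' _ _ h h' =>
    obtain ⟨j, s, hs, hsx, a, ha, rfl⟩ := h
    obtain ⟨j', t, ht, htx, a', ha', rfl⟩ := h'
    refine ⟨j + j', s * t, SetLike.mul_mem_graded hs ht, fun h => (x.isPrime.mem_or_mem h).elim hsx htx,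
      s • a' + t • a, ((ha'.smul 𝒜 hs).congr (by push_cast; ring)).add
        ((ha.smul 𝒜 ht).congr (by push_cast; ring)), ?_⟩
    rw [Localization.add_mk]
    rfl
  | smul c q _ h =>
    obtain ⟨j, s, hs, hsx, a, ha, rfl⟩ := h
    obtain ⟨⟨e, ⟨b, hb⟩, ⟨d, hd⟩, hdx⟩, rfl⟩ := HomogeneousLocalization.mk_surjective c
    refine ⟨e + j, d * s, SetLike.mul_mem_graded hd hs, fun h => (x.isPrime.mem_or_mem h).elim hdx hsx,
      b • a, (ha.smul 𝒜 hb).congr (by push_cast; ring), ?_⟩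
    rw [Algebra.smul_def, HomogeneousLocalization.algebraMap_apply, HomogeneousLocalization.val_mk,
      Localization.mk_mul]
    rfl

variable (hφ : ∀ r, φ r ∈ 𝒜 0) {d₀ : ℕ}
  (hflat : letI := φ.toAlgebra; ∀ d, d₀ ≤ d → Module.Flat R ↥(Submodule.span R (𝒜 d : Set A)))

include hφ in
theorem span_le (d : ℕ) {a : A} (ha : letI := φ.toAlgebra; a ∈ Submodule.span R (𝒜 d : Set A)) : a ∈ 𝒜 d := by
  letI := φ.toAlgebra
  induction ha using Submodule.span_induction with
  | mem a h => exact h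
  | zero => exact zero_mem _
  | add a b _ _ h h' => exact add_mem h h'
  | smul r a _ h => simpa [Algebra.smul_def, RingHom.algebraMap_toAlgebra] using SetLike.mul_mem_graded (hφ r) h

include hφ hflat in
/-- A module of homogeneous fractions of degree `n` at a point is flat over the base ring. -/
theorem flat_of_fractions (n : ℤ) (x : ProjectiveSpectrum 𝒜) {M : Type u} [AddCommGroup M] [Module R M]
    (v : M →+ GrTwist.Loc 𝒜 x) (hv : Function.Injective v)
    (hrepr : ∀ m, ∃ (j : ℕ) (s : A) (_ : s ∈ 𝒜 j) (hsx : s ∉ x.asHomogeneousIdeal) (a : A),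
      GrModX.Deg 𝒜 ((j : ℤ) + n) a ∧ v m = Localization.mk a ⟨s, hsx⟩)
    (hsurj : ∀ (j : ℕ) (s a : A) (hs : s ∈ 𝒜 j) (hsx : s ∉ x.asHomogeneousIdeal),
      GrModX.Deg 𝒜 ((j : ℤ) + n) a → ∃ m, v m = Localization.mk a ⟨s, hsx⟩)
    (hlin : ∀ r m, v (r • m) = Localization.mk (φ r) 1 * v m) : Module.Flat R M := by
  classical
  letI := φ.toAlgebra
  rw [Module.Flat.iff_forall_isTrivialRelation]
  intro l r m hrel
  choose j s hs hsx a ha hva using fun i => hrepr (m i)
  obtain ⟨e, g, he, hg, hgx⟩ := exists_pos_notMem x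
  let N : ℕ := d₀ + n.natAbs
  let S : A := (∏ i, s i) * g ^ N
  let D : ℕ := ∑ i, j i + N * e
  have hgN : g ^ N ∈ 𝒜 (N * e) := by
    simpa using SetLike.pow_mem_graded N hg
  have hS : S ∈ 𝒜 D := SetLike.mul_mem_graded (SetLike.prod_mem_graded _ _ _ fun i _ => hs i) hgN
  have hprime := x.isPrime
  have hSx : S ∉ x.asHomogeneousIdeal := fun h => by
    rcases hprime.mem_or_mem h with h | h
    · obtain ⟨i, -, hi⟩ := hprime.prod_mem_iff.1 h
      exact hsx i hi
    · exact hgx (hprime.mem_of_pow_mem _ h)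
  have hDn : (d₀ : ℤ) ≤ (D : ℤ) + n := by
    have h1 : N ≤ D := le_add_left (Nat.le_mul_of_pos_right N he)
    have h2 : (d₀ : ℤ) + |n| ≤ (D : ℤ) := by rw [← Int.natCast_natAbs]; exact_mod_cast h1
    have h3 := neg_abs_le n
    omega
  obtain ⟨dn, hdn⟩ := Int.eq_ofNat_of_zero_le ((Int.natCast_nonneg d₀).trans hDn)
  have hdn0 : d₀ ≤ dn := by omega
  let a' : Fin l → A := fun i => (∏ k ∈ Finset.univ.erase i, s k) * g ^ N * a i
  have hsplit : ∀ i, (∏ k ∈ Finset.univ.erase i, s k) * s i = ∏ k, s k := fun i =>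
    Finset.prod_erase_mul _ _ (Finset.mem_univ i)
  have ha' : ∀ i, a' i ∈ 𝒜 dn := fun i => by
    have h1 : (∏ k ∈ Finset.univ.erase i, s k) * g ^ N ∈ 𝒜 (∑ k ∈ Finset.univ.erase i, j k + N * e) :=
      SetLike.mul_mem_graded (SetLike.prod_mem_graded _ _ _ fun k _ => hs k) hgN
    have h2 := ((ha i).smul 𝒜 h1).congr (z' := (dn : ℤ)) (by
      rw [← hdn]
      simp only [D, ← Finset.sum_erase_add _ _ (Finset.mem_univ i)]
      push_cast
      ring)
    obtain ⟨i', hi', hm⟩ := h2.exists_mem (Int.natCast_nonneg _)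
    obtain rfl : i' = dn := by exact_mod_cast hi'
    exact hm
  have hva' : ∀ i, v (m i) = Localization.mk (a' i) ⟨S, hSx⟩ := fun i => by
    rw [hva i, Localization.mk_eq_mk_iff, Localization.r_iff_exists]
    refine ⟨1, ?_⟩
    show 1 * (S * a i) = 1 * (s i * a' i)
    simp only [S, a', ← hsplit i]
    ring
  have hlin' : ∀ (c : R) (b t : A) (ht : t ∉ x.asHomogeneousIdeal),
      Localization.mk (φ c) 1 * Localization.mk b (⟨t, ht⟩ : x.asHomogeneousIdeal.toIdeal.primeCompl) =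
        Localization.mk (φ c * b) ⟨t, ht⟩ := fun c b t ht => by
    rw [Localization.mk_mul, one_mul]
  have hz : Localization.mk (∑ i, φ (r i) * a' i) (⟨S, hSx⟩ : x.asHomogeneousIdeal.toIdeal.primeCompl) = 0 := by
    rw [Localization.mk_sum, ← map_zero v, ← hrel, map_sum]
    refine Finset.sum_congr rfl fun i _ => ?_
    rw [hlin, hva' i, hlin']
  have hz' : GrModX.Deg 𝒜 (dn : ℤ) (∑ i, φ (r i) * a' i) :=
    GrModX.Deg.sum _ _ fun i _ => (GrModX.Deg.smul 𝒜 (hφ (r i)) (GrModX.deg_of_mem (ha' i))).congr (by simp)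
  rw [← Localization.mk_zero (⟨S, hSx⟩ : x.asHomogeneousIdeal.toIdeal.primeCompl), Localization.mk_eq_mk_iff,
    Localization.r_iff_exists] at hz
  obtain ⟨⟨c, hc⟩, hc'⟩ := hz
  have hc0 : (c * S) * (∑ i, φ (r i) * a' i) = 0 := by
    have := hc'
    simp only [mul_zero] at this
    rw [mul_assoc]
    exact this
  obtain ⟨q, t, ht, htx, ht0⟩ := exists_homogeneous_kill x hz'
    (fun h => (hprime.mem_or_mem h).elim hc hSx) hc0
  let b : Fin l → ↥(Submodule.span R (𝒜 (q + dn) : Set A)) := fun i =>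
    ⟨t * a' i, Submodule.subset_span (SetLike.mul_mem_graded ht (ha' i))⟩
  have hb : ∑ i, r i • b i = 0 := Subtype.ext (by
    simp only [Submodule.coe_sum, SetLike.val_smul, Algebra.smul_def, RingHom.algebraMap_toAlgebra, b,
      Submodule.coe_zero]
    rw [← ht0, Finset.mul_sum]
    exact Finset.sum_congr rfl fun i _ => mul_left_comm _ _ _)
  haveI := hflat (q + dn) (hdn0.trans (le_add_left le_rfl))
  obtain ⟨k, c', y, hy, hyz⟩ := Module.Flat.isTrivialRelation_of_sum_smul_eq_zero hb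
  have htS : t * S ∈ 𝒜 (q + D) := SetLike.mul_mem_graded ht hS
  have htSx : t * S ∉ x.asHomogeneousIdeal := fun h => (hprime.mem_or_mem h).elim htx hSx
  choose w hw using fun p : Fin k => hsurj (q + D) (t * S) (y p).1 htS htSx
    (Or.inr ⟨q + dn, by push_cast; omega, span_le φ hφ _ (y p).2⟩)
  refine ⟨k, c', w, fun i => hv ?_, hyz⟩
  rw [map_sum]
  simp only [hlin, hw, hlin']
  rw [← Localization.mk_sum, hva' i, Localization.mk_eq_mk_iff, Localization.r_iff_exists]
  refine ⟨1, ?_⟩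
  have h1 := congrArg Subtype.val (hy i)
  simp only [Submodule.coe_sum, SetLike.val_smul, Algebra.smul_def, RingHom.algebraMap_toAlgebra, b] at h1
  show 1 * ((t * S) * a' i) = 1 * (S * ∑ p, φ (c' i p) * (y p).1)
  rw [← h1]
  ring

end Groth.Agent.RelProjFlat
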