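import Groth.Agent.RelProjFlat.Alg
import Groth.Agent.RelTildeX.Chart
import Groth.Agent.RelTwistX.Loc
import Groth.Agent.QCoh.FlatOver
import Groth.Agent.GrFlat5.FlatAtIso
import Groth.Agent.AssLib.OpenRestrict
import Groth.Prelude.Def_FlatMod2

/-!
# A relative Proj of an algebra with flat high degrees is flat, and so are its twists
-/

noncomputable section

universe u

open CategoryTheory CategoryTheory.Limits AlgebraicGeometry TopologicalSpace Opposite DirectSum HomogeneousLocalization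
open scoped HomogeneousIdeal

set_option backward.isDefEq.respectTransparency false
set_option backward.isDefEq.respectTransparency.types false
set_option linter.style.haveILetI false
set_option linter.unusedSectionVars false

namespace Groth.Agent.RelProjFlat

section twistStalk

variable {A σ : Type u} [CommRing A] [SetLike σ A] [AddSubgroupClass σ A] {𝒜 : ℕ → σ} [GradedRing 𝒜] (n : ℤ)
  (x : Proj 𝒜)

/-- The value at `x` of a germ of a section of the twist. -/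
def stalkVal : (GrTwist.twist 𝒜 n).presheaf.stalk x →+ GrTwist.Loc 𝒜 x :=
  (colimit.desc ((OpenNhds.inclusion x).op ⋙ (GrTwist.twist 𝒜 n).presheaf)
    { pt := AddCommGrpCat.of (GrTwist.Loc 𝒜 x)
      ι :=
        { app := fun U => AddCommGrpCat.ofHom
            { toFun := fun s => GrTwist.val (V := U.unop.1) s ⟨x, U.unop.2⟩
              map_zero' := rfl
              map_add' := fun _ _ => rfl } } }).hom

theorem stalkVal_germ {U : (Proj 𝒜).Opens} (hx : x ∈ U) (s : Γ(GrTwist.twist 𝒜 n, U)) :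
    stalkVal n x ((GrTwist.twist 𝒜 n).presheaf.germ U x hx s) = GrTwist.val s ⟨x, hx⟩ :=
  ConcreteCategory.congr_hom
    (colimit.ι_desc (F := (OpenNhds.inclusion x).op ⋙ (GrTwist.twist 𝒜 n).presheaf) _ (op ⟨U, hx⟩)) s

theorem stalkVal_injective : Function.Injective (stalkVal n x) := by
  classical
  rw [injective_iff_map_eq_zero]
  intro m hm
  obtain ⟨U, hxU, s, rfl⟩ := TopCat.Presheaf.exists_germ_eq (GrTwist.twist 𝒜 n).presheaf m
  rw [stalkVal_germ] at hm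
  obtain ⟨U', hU', i, j, a, q, hq, hxU', hij, hval⟩ := RelTwistX.exists_val_frac s ⟨x, hxU⟩
  rw [hval ⟨x, hxU'⟩, ← Localization.mk_zero (⟨(q : A), hq ⟨x, hxU'⟩⟩ : x.asHomogeneousIdeal.toIdeal.primeCompl),
    Localization.mk_eq_mk_iff, Localization.r_iff_exists] at hm
  obtain ⟨⟨c, hc⟩, hc'⟩ := hm
  have hc0 : (c * q) * (a : A) = 0 := by
    have := hc'
    simp only [mul_zero] at this
    rw [mul_assoc]
    exact this
  obtain ⟨e, t, ht, htx, ht0⟩ := exists_homogeneous_kill x (z := (i : ℤ)) (GrModX.deg_of_mem a.2)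
    (RelTwistX.notMem_prime_mul hc (hq ⟨x, hxU'⟩)) hc0
  let W : (Proj 𝒜).Opens := U' ⊓ Proj.basicOpen 𝒜 t
  have hxW : x ∈ W := ⟨hxU', htx⟩
  have hW : W ≤ U := inf_le_left.trans hU'
  rw [← TopCat.Presheaf.germ_res_apply _ (homOfLE hW) x hxW s]
  rw [show (GrTwist.twist 𝒜 n).presheaf.map (homOfLE hW).op s = 0 from RelTwistX.val_ext fun z => ?_, map_zero]
  show GrTwist.val s ⟨z.1, hW z.2⟩ = 0
  rw [hval ⟨z.1, z.2.1⟩, ← Localization.mk_zero (⟨(q : A), hq ⟨z.1, z.2.1⟩⟩ : z.1.asHomogeneousIdeal.toIdeal.primeCompl),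
    Localization.mk_eq_mk_iff, Localization.r_iff_exists]
  refine ⟨⟨t, z.2.2⟩, ?_⟩
  show t * ((q : A) * (a : A)) = t * ((q : A) * 0)
  rw [mul_zero, mul_zero, mul_left_comm, ht0, mul_zero]

theorem stalkVal_repr (m : (GrTwist.twist 𝒜 n).presheaf.stalk x) :
    ∃ (j : ℕ) (s : A) (_ : s ∈ 𝒜 j) (hsx : s ∉ x.asHomogeneousIdeal) (a : A),
      GrModX.Deg 𝒜 ((j : ℤ) + n) a ∧ stalkVal n x m = Localization.mk a ⟨s, hsx⟩ := by
  obtain ⟨U, hxU, s, rfl⟩ := TopCat.Presheaf.exists_germ_eq (GrTwist.twist 𝒜 n).presheaf m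
  rw [stalkVal_germ]
  exact exists_repr_twistAt n x ((s : GrTwist.sectN (𝒜 := 𝒜) n (op U)).1 ⟨x, hxU⟩).2

theorem stalkVal_surj (j : ℕ) (s a : A) (hs : s ∈ 𝒜 j) (hsx : s ∉ x.asHomogeneousIdeal)
    (ha : GrModX.Deg 𝒜 ((j : ℤ) + n) a) : ∃ m, stalkVal n x m = Localization.mk a ⟨s, hsx⟩ := by
  have hmem : ∀ z : Proj.basicOpen 𝒜 s, Localization.mk a (⟨s, z.2⟩ : z.1.asHomogeneousIdeal.toIdeal.primeCompl) ∈
      GrTwist.twistAt 𝒜 n z.1 := fun z => by
    rcases ha with rfl | ⟨i, hi, ha⟩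
    · rw [Localization.mk_zero]
      exact zero_mem _
    · exact Submodule.subset_span ⟨i, j, ⟨a, ha⟩, ⟨s, hs⟩, z.2, hi, rfl⟩
  let sec : GrTwist.sectN (𝒜 := 𝒜) n (op (Proj.basicOpen 𝒜 s)) :=
    ⟨fun z => ⟨_, hmem z⟩, fun z => by
      rcases ha with h0 | ⟨i, hi, ha⟩
      · exact ⟨_, z.2, 𝟙 _, 0, j, ⟨a, h0 ▸ zero_mem _⟩, ⟨s, hs⟩, fun w => w.2, Or.inr h0, fun w => rfl⟩
      · exact ⟨_, z.2, 𝟙 _, i, j, ⟨a, ha⟩, ⟨s, hs⟩, fun w => w.2, Or.inl hi, fun w => rfl⟩⟩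
  exact ⟨(GrTwist.twist 𝒜 n).presheaf.germ (Proj.basicOpen 𝒜 s) x hsx sec, stalkVal_germ n x hsx _⟩

theorem stalkVal_smul (c : (Proj 𝒜).presheaf.stalk x) (m : (GrTwist.twist 𝒜 n).presheaf.stalk x) :
    stalkVal n x (c • m) = (Proj.stalkIso' 𝒜 x c).val * stalkVal n x m := by
  obtain ⟨U, hxU, c, rfl⟩ := TopCat.Presheaf.exists_germ_eq (Proj 𝒜).presheaf c
  obtain ⟨V, hxV, s, rfl⟩ := TopCat.Presheaf.exists_germ_eq (GrTwist.twist 𝒜 n).presheaf m
  have hx : x ∈ U ⊓ V := ⟨hxU, hxV⟩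
  rw [← TopCat.Presheaf.germ_res_apply _ (homOfLE (inf_le_left : U ⊓ V ≤ U)) x hx c,
    ← TopCat.Presheaf.germ_res_apply _ (homOfLE (inf_le_right : U ⊓ V ≤ V)) x hx s, ← QCoh.germ_smul']
  erw [stalkVal_germ, stalkVal_germ, Proj.stalkIso'_germ]
  exact GrTwist.coe_smul_val n x _ _

end twistStalk

section const

variable {A σ : Type u} [CommRing A] [SetLike σ A] [AddSubgroupClass σ A] (𝒜 : ℕ → σ) [GradedRing 𝒜]
  {R : Type u} [CommRing R] (β : CommRingCat.of R ⟶ CommRingCat.of (𝒜 0))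

theorem stalkIso_germ_const (x : Proj 𝒜) (a : R) :
    (Proj.stalkIso' 𝒜 x ((Proj 𝒜).presheaf.germ ⊤ x trivial
      ((Proj.toSpecZero 𝒜 ≫ Spec.map β).appTop ((Scheme.ΓSpecIso (CommRingCat.of R)).inv a)))).val =
      Localization.mk ((β a : 𝒜 0) : A) 1 := by
  obtain ⟨d, f, hd, hf, hfx⟩ := exists_pos_notMem x
  let D := Proj.basicOpen 𝒜 f
  let κ : CommRingCat.of R ⟶ Γ(Proj 𝒜, D) :=
    β ≫ CommRingCat.ofHom (HomogeneousLocalization.fromZeroRingHom 𝒜 (Submonoid.powers f)) ≫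
      Proj.awayToSection 𝒜 f
  let ψ := Proj.toSpecZero 𝒜 ≫ Spec.map β
  have h0 : D.ι ≫ ψ = D.toSpecΓ ≫ Spec.map κ := by
    have h := Proj.awayι_toSpecZero 𝒜 f hf hd
    rw [← Proj.basicOpenIsoSpec_inv_ι, Category.assoc, Iso.inv_comp_eq,
      Proj.basicOpenIsoSpec_hom, Proj.basicOpenToSpec, Category.assoc, ← Spec.map_comp] at h
    show D.ι ≫ Proj.toSpecZero 𝒜 ≫ Spec.map _ = _
    rw [← Category.assoc, h, Category.assoc, ← Spec.map_comp]
  have h := congrArg Scheme.Hom.appTop h0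
  rw [Scheme.Hom.comp_appTop D.ι, Scheme.Hom.comp_appTop D.toSpecΓ,
    Scheme.Opens.toSpecΓ_appTop, ← Category.assoc (Spec.map κ).appTop,
    Scheme.ΓSpecIso_naturality, Category.assoc] at h
  have h' := congrArg (fun φ => φ ≫ D.topIso.hom) h
  simp only [Category.assoc, Iso.inv_hom_id, Category.comp_id] at h'
  rw [Scheme.Opens.ι_appTop, Scheme.Opens.topIso_hom] at h'
  have key : ∀ {U V : (Opens (Proj 𝒜))ᵒᵖ} (p : op ⊤ ⟶ U) (q : U ⟶ V) (c : op ⊤ ⟶ V) (y : Γ(Proj 𝒜, ⊤)),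
      ((Proj 𝒜).presheaf.map c).hom y = ((Proj 𝒜).presheaf.map q).hom (((Proj 𝒜).presheaf.map p).hom y) :=
    fun p q c y => by rw [Subsingleton.elim c (p ≫ q), Functor.map_comp]; rfl
  have h2 : (Proj 𝒜).presheaf.map (homOfLE (le_top : D ≤ ⊤)).op
      (ψ.appTop ((Scheme.ΓSpecIso (CommRingCat.of R)).inv a)) = κ a :=
    ((key _ _ _ _).trans (ConcreteCategory.congr_hom h' _)).trans
      (congrArg κ (ConcreteCategory.congr_hom (Scheme.ΓSpecIso (CommRingCat.of R)).inv_hom_id a))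
  rw [← TopCat.Presheaf.germ_res_apply _ (homOfLE (le_top : D ≤ ⊤)) x hfx]
  erw [h2, Proj.stalkIso'_germ]
  rfl

end const

theorem isFlatOverAt_of_restrict {X Y S : Scheme.{u}} (f : Y ⟶ S) (F : Y.Modules) (j : X ⟶ Y) [IsOpenImmersion j]
    (z : X) (h : FlatMod.IsFlatOverAt (j ≫ f) (F.restrict j) z) : FlatMod.IsFlatOverAt f F (j z) := by
  obtain ⟨e, he⟩ := AssLib.exists_semilinear_restrict (j := j) (M := F) z
  letI := FlatMod.moduleStalkOver f F (j z)
  letI M' : Module (S.presheaf.stalk (f (j z))) ((F.restrict j).presheaf.stalk z) :=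
    FlatMod.moduleStalkOver (j ≫ f) (F.restrict j) z
  haveI : Module.Flat (S.presheaf.stalk (f (j z))) ((F.restrict j).presheaf.stalk z) := h
  let l : (F.restrict j).presheaf.stalk z ≃ₗ[S.presheaf.stalk (f (j z))] F.presheaf.stalk (j z) :=
    { e with
      map_smul' := fun r m => by
        show e (((j ≫ f).stalkMap z).hom r • m) = (f.stalkMap (j z)).hom r • e m
        rw [Scheme.Hom.stalkMap_comp]
        exact he _ m }
  exact @Module.Flat.of_linearEquiv (S.presheaf.stalk (f (j z))) _ _ _ _ _ _ _ ‹_› l.symm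

variable {S P : Scheme.{u}} {𝒮 : RelProj.QCGrAlg S} {p : P ⟶ S}
  {chart : ∀ (U : S.Opens) (hU : IsAffineOpen U), (((p ⁻¹ᵁ U : P.Opens) : Scheme.{u}) ≅ Proj (𝒮.deg U hU))}
  (hP : RelProj.IsRelProj 𝒮 p chart)

include hP

theorem emb_comp (U : S.Opens) (hU : IsAffineOpen U) :
    RelProj.emb p chart U hU ≫ p =
      (Proj.toSpecZero (𝒮.deg U hU) ≫ Spec.map (𝒮.strZero U hU)) ≫ hU.fromSpec := by
  rw [RelProj.emb, Category.assoc, ← hP.chart_over U hU, Iso.inv_hom_id_assoc, Category.assoc]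

theorem top_le_preimage (U : S.Opens) (hU : IsAffineOpen U) :
    (⊤ : (Proj (𝒮.deg U hU)).Opens) ≤ (RelProj.emb p chart U hU ≫ p) ⁻¹ᵁ U := by
  intro y _
  show RelProj.emb p chart U hU y ∈ p ⁻¹ᵁ U
  rw [← RelTildeX.opensRange_emb p chart U hU]
  exact ⟨y, rfl⟩

theorem stalkIso_base (U : S.Opens) (hU : IsAffineOpen U) (y : Proj (𝒮.deg U hU)) (r : Γ(S, U)) :
    (Proj.stalkIso' (𝒮.deg U hU) y (((RelProj.emb p chart U hU ≫ p).appLE U ⊤ (top_le_preimage hP U hU) ≫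
      (Proj (𝒮.deg U hU)).presheaf.germ ⊤ y trivial).hom r)).val =
      Localization.mk ((𝒮.str.app (op U)).hom r) 1 := by
  let ψ := Proj.toSpecZero (𝒮.deg U hU) ≫ Spec.map (𝒮.strZero U hU)
  have e : (RelProj.emb p chart U hU ≫ p).appLE U ⊤ (top_le_preimage hP U hU) =
      (Scheme.ΓSpecIso Γ(S, U)).inv ≫ ψ.appTop := by
    have h1 : hU.fromSpec.appLE U ⊤ hU.fromSpec_preimage_self.ge = (Scheme.ΓSpecIso Γ(S, U)).inv := by
      rw [Scheme.Hom.appLE, hU.fromSpec_app_self, Category.assoc, ← Functor.map_comp]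
      exact (congrArg (_ ≫ (Spec Γ(S, U)).presheaf.map ·) (Subsingleton.elim _ (𝟙 _))).trans (by simp)
    simp only [emb_comp hP U hU]
    rw [← h1, ← Scheme.Hom.appLE_comp_appLE ψ hU.fromSpec U ⊤ ⊤ hU.fromSpec_preimage_self.ge le_top]
    exact congrArg (_ ≫ ·) (Scheme.Hom.app_eq_appLE ψ).symm
  rw [e]
  exact stalkIso_germ_const (𝒮.deg U hU) (𝒮.strZero U hU) y r

variable {d₀ : ℕ} (hflat : ∀ d : ℕ, d₀ ≤ d → ∀ (U : S.Opens) (hU : IsAffineOpen U),
  letI := (𝒮.str.app (op U)).hom.toAlgebra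
  Module.Flat Γ(S, U) ↥(Submodule.span Γ(S, U) (𝒮.deg U hU d : Set (𝒮.presheaf.obj (op U)))))

include hflat

theorem isFlatOver_twist (n : ℤ) {L : P.Modules}
    {lam : ∀ (U : S.Opens) (hU : IsAffineOpen U),
      L ⟶ (Scheme.Modules.pushforward (RelProj.emb p chart U hU)).obj (GrTwist.twist (𝒮.deg U hU) n)}
    (hL : RelProj.IsRelTwist 𝒮 p chart n L lam) : FlatMod.IsFlatOver p L := by
  intro x
  obtain ⟨U, y, rfl⟩ := (RelTildeX.embCover p chart).exists_eq x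
  obtain ⟨U, hU⟩ := U
  refine isFlatOverAt_of_restrict p L (RelProj.emb p chart U hU) y ?_
  refine GrFlat5.isFlatOverAt_of_iso _ (RelTildeX.twistIso hL U hU).symm y ?_
  rw [QCoh.isFlatOverAt_iff _ hU (top_le_preimage hP U hU) (x := y) trivial]
  letI : Module Γ(S, U) ((GrTwist.twist (𝒮.deg U hU) n).presheaf.stalk y) := Module.compHom _
    ((RelProj.emb p chart U hU ≫ p).appLE U ⊤ (top_le_preimage hP U hU) ≫
      (Proj (𝒮.deg U hU)).presheaf.germ ⊤ y trivial).hom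
  refine flat_of_fractions (𝒮.str.app (op U)).hom (𝒮.str_mem U hU) (fun d hd => hflat d hd U hU) n y
    (stalkVal n y) (stalkVal_injective n y) (stalkVal_repr n y) (stalkVal_surj n y) fun r m => ?_
  exact (stalkVal_smul n y _ m).trans (congrArg (· * _) (stalkIso_base hP U hU y r))

theorem flat : Flat p := by
  refine IsZariskiLocalAtSource.of_openCover (P := @Flat) (RelTildeX.embCover p chart) fun U => ?_
  obtain ⟨U, hU⟩ := U
  show Flat (RelProj.emb p chart U hU ≫ p)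
  refine Flat.of_stalkMap _ fun y => ?_
  let 𝒜 := 𝒮.deg U hU
  let g := RelProj.emb p chart U hU ≫ p
  have hy : g y ∈ U := top_le_preimage hP U hU trivial
  letI : Algebra (S.presheaf.stalk (g y)) ((Proj 𝒜).presheaf.stalk y) := (g.stalkMap y).hom.toAlgebra
  letI := QCoh.stalkAlg (X := S) (U := U) (x := g y) hy
  letI : Module Γ(S, U) ((Proj 𝒜).presheaf.stalk y) := Module.compHom _
    (g.appLE U ⊤ (top_le_preimage hP U hU) ≫ (Proj 𝒜).presheaf.germ ⊤ y trivial).hom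
  haveI : IsScalarTower Γ(S, U) (S.presheaf.stalk (g y)) ((Proj 𝒜).presheaf.stalk y) := by
    refine IsScalarTower.of_algebraMap_smul fun a m => ?_
    show g.stalkMap y (S.presheaf.germ U (g y) hy a) * m = _ * m
    rw [Scheme.Hom.germ_stalkMap_apply g U y hy a]
    refine congrArg (· * m) ?_
    exact ((Proj 𝒜).presheaf.germ_res_apply (homOfLE (top_le_preimage hP U hU)) y trivial _).symm
  haveI := QCoh.isLocalization_stalk' hU hy
  show Module.Flat (S.presheaf.stalk (g y)) ((Proj 𝒜).presheaf.stalk y)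
  refine (Module.flat_iff_of_isLocalization (S.presheaf.stalk (g y))
    (hU.primeIdealOf ⟨g y, hy⟩).asIdeal.primeCompl _).2 ?_
  let v : (Proj 𝒜).presheaf.stalk y →+ GrTwist.Loc 𝒜 y :=
    (algebraMap (GrTwist.A0 𝒜 y) (GrTwist.Loc 𝒜 y)).toAddMonoidHom.comp (Proj.stalkIso' 𝒜 y).toAddMonoidHom
  have hv : ∀ m, v m = (Proj.stalkIso' 𝒜 y m).val := fun m => HomogeneousLocalization.algebraMap_apply _
  refine flat_of_fractions (𝒮.str.app (op U)).hom (𝒮.str_mem U hU) (fun d hd => hflat d hd U hU) 0 y v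
    ?_ (fun m => ?_) (fun j s a hs hsx ha => ?_) fun r m => ?_
  · intro a b hab
    rw [hv, hv] at hab
    exact (Proj.stalkIso' 𝒜 y).injective (HomogeneousLocalization.val_injective _ hab)
  · obtain ⟨⟨e, ⟨b, hb⟩, ⟨d, hd⟩, hdx⟩, he⟩ := HomogeneousLocalization.mk_surjective (Proj.stalkIso' 𝒜 y m)
    refine ⟨e, d, hd, hdx, b, (GrModX.deg_of_mem hb).congr (by simp), ?_⟩
    rw [hv, ← he, HomogeneousLocalization.val_mk]
  · obtain ⟨i, hi, hai⟩ := ha.exists_mem (by simp)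
    obtain rfl : i = j := by omega
    exact ⟨(Proj.stalkIso' 𝒜 y).symm (HomogeneousLocalization.mk ⟨i, ⟨a, hai⟩, ⟨s, hs⟩, hsx⟩), by
      rw [hv, RingEquiv.apply_symm_apply, HomogeneousLocalization.val_mk]⟩
  · show v (_ * m) = _
    rw [hv, hv, map_mul, HomogeneousLocalization.val_mul]
    exact congrArg (· * _) (stalkIso_base hP U hU y r)

end Groth.Agent.RelProjFlat
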